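import Cfsg.Agent.Screen.CosetEnum.SuzG24.Data

/-!
# Checking the table
-/

set_option autoImplicit false
set_option maxRecDepth 20000

namespace Cfsg.Agent.Screen.CosetEnum.SuzG24

open Cfsg.Agent.Screen.CosetEnum

set_option Elab.async false

theorem rcheck0 : tbl.rows 350 0 = true := by decide +kernel

theorem rcheck1 : tbl.rows 350 350 = true := by decide +kernel

theorem rcheck2 : tbl.rows 350 700 = true := by decide +kernel

theorem rcheck3 : tbl.rows 350 1050 = true := by decide +kernel

theorem rcheck4 : tbl.rows 350 1400 = true := by decide +kernel

theorem rcheck5 : tbl.rows 32 1750 = true := by decide +kernel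

end Cfsg.Agent.Screen.CosetEnum.SuzG24
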