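import Cfsg.Agent.Screen.CosetEnum.SuzG24.Data
import Cfsg.Agent.Screen.CosetEnum.SuzG24.FCheck0
import Cfsg.Agent.Screen.CosetEnum.SuzG24.FCheck1
import Cfsg.Agent.Screen.CosetEnum.SuzG24.RCheck0

/-!
# The table is checked
-/

set_option autoImplicit false
set_option maxRecDepth 20000

namespace Cfsg.Agent.Screen.CosetEnum.SuzG24

open Cfsg.Agent.Screen.CosetEnum

theorem checked : tbl.Checked where
  facts b hb := by
    have hb' : b < 920 := by
      have : tbl.toCert.nf = 22061 := rfl
      omega
    by_cases h0 : b < 80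
    · exact blocks_spec _ _ _ fcheck0 b (by omega) h0
    by_cases h1 : b < 160
    · exact blocks_spec _ _ _ fcheck1 b (by omega) h1
    by_cases h2 : b < 240
    · exact blocks_spec _ _ _ fcheck2 b (by omega) h2
    by_cases h3 : b < 320
    · exact blocks_spec _ _ _ fcheck3 b (by omega) h3
    by_cases h4 : b < 400
    · exact blocks_spec _ _ _ fcheck4 b (by omega) h4
    by_cases h5 : b < 480
    · exact blocks_spec _ _ _ fcheck5 b (by omega) h5
    by_cases h6 : b < 560
    · exact blocks_spec _ _ _ fcheck6 b (by omega) h6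
    by_cases h7 : b < 640
    · exact blocks_spec _ _ _ fcheck7 b (by omega) h7
    by_cases h8 : b < 720
    · exact blocks_spec _ _ _ fcheck8 b (by omega) h8
    by_cases h9 : b < 800
    · exact blocks_spec _ _ _ fcheck9 b (by omega) h9
    by_cases h10 : b < 880
    · exact blocks_spec _ _ _ fcheck10 b (by omega) h10
    by_cases h11 : b < 920
    · exact blocks_spec _ _ _ fcheck11 b (by omega) h11
    omega
  rows c hc := by
    have hc' : c < 1782 := hc
    by_cases h0 : c < 350
    · exact Tab.rows_spec _ _ rcheck0 c (by omega) h0 hc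
    by_cases h1 : c < 700
    · exact Tab.rows_spec _ _ rcheck1 c (by omega) h1 hc
    by_cases h2 : c < 1050
    · exact Tab.rows_spec _ _ rcheck2 c (by omega) h2 hc
    by_cases h3 : c < 1400
    · exact Tab.rows_spec _ _ rcheck3 c (by omega) h3 hc
    by_cases h4 : c < 1750
    · exact Tab.rows_spec _ _ rcheck4 c (by omega) h4 hc
    by_cases h5 : c < 1782
    · exact Tab.rows_spec _ _ rcheck5 c (by omega) h5 hc
    omega
  base := by decide +kernel

end Cfsg.Agent.Screen.CosetEnum.SuzG24
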